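import Groth.Agent.Mumford23.Section
import Groth.Agent.UPLib.ProjSpace
import Groth.Agent.PnEmb.Criterion
import Groth.Agent.DimLib.ProjDim
import Groth.Agent.EulerLib.Degree
import Groth.Agent.EulerLib.NumEquivPull
import Groth.Agent.CurveLib.ProjLine

/-!
# Finite linear projections of projective schemes
-/

set_option autoImplicit false
set_option linter.style.haveILetI false
set_option backward.isDefEq.respectTransparency.types false
set_option maxHeartbeats 1000000

universe u

open CategoryTheory CategoryTheory.Limits AlgebraicGeometry TopologicalSpace Opposite MvPolynomial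
open Groth.Agent.Coherent Groth.Agent.PicLib Groth.Agent.AmpleLib

namespace Groth.Agent.LinProj24

/-- A linear form nonzero at finitely many given points, with affine nonvanishing locus. -/
theorem exists_section_affine {k : Type u} [Field k] [Infinite k] {r : ℕ} (S : Set (CohB1.ProjSpace r k))
    (hS : S.Finite) :
    ∃ b : Γ(Twist.twistProjSpace r k 1, (⊤ : (CohB1.ProjSpace r k).Opens)),
      S ⊆ (glocus (Twist.twistProjSpace r k 1) b : Set (CohB1.ProjSpace r k)) ∧
        IsAffineOpen (glocus (Twist.twistProjSpace r k 1) b) := by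
  haveI := hS.to_subtype
  let Lf : (Fin (r + 1) → k) →ₗ[k] MvPolynomial (Fin (r + 1)) k := Fintype.linearCombination k fun l => X l
  let p : S → Submodule k (Fin (r + 1) → k) := fun x =>
    ((show ProjectiveSpectrum (CohB1.polyGrading r k) from x.1).asHomogeneousIdeal.toIdeal.restrictScalars k).comap Lf
  have hp : ∀ x, p x ≠ ⊤ := fun x h => by
    obtain ⟨l, hl⟩ := CAlgH3.PTilde.exists_var_notMem (show ProjectiveSpectrum (CohB1.polyGrading r k) from x.1)
    have hmem : Lf (Pi.single l 1) ∈
        (show ProjectiveSpectrum (CohB1.polyGrading r k) from x.1).asHomogeneousIdeal.toIdeal :=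
      Submodule.eq_top_iff'.1 h (Pi.single l 1)
    simp [Lf, Fintype.linearCombination_apply_single] at hmem
    exact hl hmem
  obtain ⟨c, hc⟩ := Submodule.exists_forall_notMem_of_forall_ne_top p hp
  have hdeg : Lf c ∈ CohB1.polyGrading r k 1 := by
    simp only [Lf, Fintype.linearCombination_apply]
    exact sum_mem fun l _ => Submodule.smul_mem _ _ (ProjLib.X_mem_polyGrading r k l)
  have h := RelVALib.glocus_globalOf_deg (𝒜 := CohB1.polyGrading r k) CAlgH3.PSheafGen.covers (d := 1) hdeg
  refine ⟨show Γ(Twist.twistProjSpace r k 1, (⊤ : (CohB1.ProjSpace r k).Opens)) from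
    (show Γ(GrTwist.twist (CohB1.polyGrading r k) 1, (⊤ : (CohB1.ProjSpace r k).Opens)) from
      GrTwist.globalOf (CohB1.polyGrading r k) (i := 1) ⟨Lf c, hdeg⟩), fun x hx => ?_, ?_⟩
  · exact h.ge (hc ⟨x, hx⟩ : (show ProjectiveSpectrum (CohB1.polyGrading r k) from x) ∈
      Proj.basicOpen (CohB1.polyGrading r k) (Lf c))
  · exact h ▸ Proj.isAffineOpen_basicOpen (CohB1.polyGrading r k) (Lf c) hdeg one_pos

/-- A closed subset missing all generic points drops the dimension. -/
theorem dim_lt_of_forall_generic {α : Type*} [TopologicalSpace α] {T Z : Set α} (hT : IsClosed T)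
    (hTZ : T ⊆ Z) (S : Set α) (hS : ∀ A : Set α, IsIrreducible A → A ⊆ Z → ∃ y ∈ S, y ∈ Z ∧ A ⊆ closure {y} ∧ closure {y} ⊆ Z)
    (hST : ∀ y ∈ S, y ∉ T) {r : ℕ} (hr : topologicalKrullDim Z ≤ r) :
    topologicalKrullDim T < r := by
  have hi := (Topology.IsEmbedding.inclusion hTZ).isInducing
  let F : IrreducibleCloseds T → IrreducibleCloseds Z := IrreducibleCloseds.map _ hi.continuous
  have hF : StrictMono F := IrreducibleCloseds.map_strictMono_of_isInducing hi
  have hlt : ∀ A, ∃ B, F A < B := fun A => by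
    obtain ⟨y, hyS, hyZ, hAy, hyc⟩ := hS (Subtype.val '' (F A : Set Z))
      ((F A).isIrreducible.image _ continuous_subtype_val.continuousOn) (by rintro _ ⟨z, _, rfl⟩; exact z.2)
    refine ⟨⟨closure {(⟨y, hyZ⟩ : Z)}, isIrreducible_singleton.closure, isClosed_closure⟩,
      lt_of_le_of_ne (fun z hz => ?_) fun h => ?_⟩
    · show z ∈ closure {(⟨y, hyZ⟩ : Z)}
      rw [closure_subtype, Set.image_singleton]
      exact hAy ⟨z, hz, rfl⟩
    · have hy' : (⟨y, hyZ⟩ : Z) ∈ (F A : Set Z) := by
        rw [h]; exact subset_closure rfl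
      have hsub : (F A : Set Z) ⊆ Subtype.val ⁻¹' T :=
        closure_minimal (by rintro _ ⟨t, _, rfl⟩; exact t.2) (hT.preimage continuous_subtype_val)
      exact hST y hyS (hsub hy')
  have key : ∀ p : LTSeries (IrreducibleCloseds T), p.length + 1 ≤ r := by
    intro p
    obtain ⟨B, hB⟩ := hlt p.last
    have h1 := (Order.LTSeries.length_le_krullDim ((p.map F hF).snoc B hB)).trans hr
    rw [RelSeries.snoc_length, LTSeries.map_length] at h1
    exact_mod_cast h1
  rcases r with _ | r
  · have : IsEmpty (IrreducibleCloseds T) := ⟨fun A => by simpa using key (RelSeries.singleton _ A)⟩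
    show Order.krullDim _ < _
    rw [Order.krullDim_eq_bot]
    exact WithBot.bot_lt_coe _
  · refine lt_of_le_of_lt (b := ((r : ℕ) : WithBot ℕ∞)) ?_ (by exact_mod_cast Nat.lt_succ_self r)
    refine iSup_le fun p => ?_
    exact_mod_cast Nat.le_of_succ_le_succ (key p)

variable {k : Type u} [Field k] [Infinite k] {N : ℕ}

/-- Linear forms without a common zero on a closed subset. -/
theorem exists_forms : ∀ (m : ℕ) (Z : Set (CohB1.ProjSpace N k)), IsClosed Z → topologicalKrullDim Z < (m : WithBot ℕ∞) →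
    ∃ σ : Fin m → Γ(Twist.twistProjSpace N k 1, (⊤ : (CohB1.ProjSpace N k).Opens)),
      (∀ i, IsAffineOpen (glocus (Twist.twistProjSpace N k 1) (σ i))) ∧
        ∀ x ∈ Z, ∃ i, x ∈ glocus (Twist.twistProjSpace N k 1) (σ i) := by
  intro m
  induction m with
  | zero =>
    intro Z hZ hdim
    refine ⟨Fin.elim0, fun i => i.elim0, fun x hx => ?_⟩
    haveI : Nonempty Z := ⟨⟨x, hx⟩⟩
    haveI : Nonempty (IrreducibleCloseds Z) :=
      ⟨⟨closure {⟨x, hx⟩}, isIrreducible_singleton.closure, isClosed_closure⟩⟩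
    exact absurd hdim (not_lt.2 (Order.krullDim_nonneg (α := IrreducibleCloseds Z)))
  | succ m ih =>
    intro Z hZ hdim
    letI : (CohB1.ProjSpace N k).Over (Spec (CommRingCat.of k)) := ⟨CohB1.ProjSpace.toSpec N k⟩
    haveI : IsProper (CohB1.ProjSpace N k ↘ Spec (CommRingCat.of k)) :=
      CurveLib.isProper_projSpace k N
    haveI := EulerLib.isNoetherian_of_proper k (X := CohB1.ProjSpace N k)
    haveI : NoetherianSpace Z := Topology.IsInducing.subtypeVal.noetherianSpace
    have hfin : (irreducibleComponents Z).Finite := NoetherianSpace.finite_irreducibleComponents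
    let S : Set (CohB1.ProjSpace N k) :=
      {y | ∃ C ∈ irreducibleComponents Z, IsGenericPoint y (closure (Subtype.val '' C))}
    have hSfin : S.Finite := by
      refine (hfin.biUnion fun C _ => Set.Subsingleton.finite (s := {y | IsGenericPoint y (closure (Subtype.val '' C))})
        fun a ha b hb => ha.eq hb).subset ?_
      rintro y ⟨C, hC, hy⟩
      exact Set.mem_biUnion hC hy
    have hsub : ∀ C : Set Z, closure (Subtype.val '' C) ⊆ Z := fun C =>
      closure_minimal (by rintro _ ⟨z, _, rfl⟩; exact z.2) hZ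
    obtain ⟨b, hb, haff⟩ := exists_section_affine S hSfin
    let T : Set (CohB1.ProjSpace N k) := Z \ glocus (Twist.twistProjSpace N k 1) b
    have hT : IsClosed T := hZ.sdiff (glocus (Twist.twistProjSpace N k 1) b).2
    have hle : topologicalKrullDim Z ≤ (m : WithBot ℕ∞) := by
      have hd : topologicalKrullDim Z < ((m + 1 : ℕ) : WithBot ℕ∞) := hdim
      revert hd
      generalize topologicalKrullDim Z = q
      intro hd
      induction q with
      | bot => exact bot_le
      | coe q =>
        have hd' : q < ((m + 1 : ℕ) : ℕ∞) := by exact_mod_cast hd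
        have : q ≤ (m : ℕ∞) := by
          induction q with
          | top => exact absurd hd' (not_lt.2 le_top)
          | coe q => exact_mod_cast Nat.lt_succ_iff.1 (by exact_mod_cast hd')
        exact_mod_cast this
    have hlt : topologicalKrullDim T < (m : WithBot ℕ∞) := by
      refine dim_lt_of_forall_generic hT Set.sdiff_subset S (fun A hA hAZ => ?_) (fun y hy hyT => hyT.2 (hb hy)) hle
      have hA' : IsPreirreducible (Subtype.val ⁻¹' A : Set Z) := by
        intro u v hu hv ⟨a, ha, hau⟩ ⟨c, hc, hcv⟩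
        obtain ⟨u', hu', rfl⟩ := isOpen_induced_iff.1 hu
        obtain ⟨v', hv', rfl⟩ := isOpen_induced_iff.1 hv
        obtain ⟨x, hxA, hxu, hxv⟩ := hA.2 u' v' hu' hv' ⟨a.1, ha, hau⟩ ⟨c.1, hc, hcv⟩
        exact ⟨⟨x, hAZ hxA⟩, hxA, hxu, hxv⟩
      obtain ⟨C, hC, hAC, hCmax⟩ := exists_preirreducible _ hA'
      have hCirr : IsIrreducible C := by
        obtain ⟨a, ha⟩ := hA.1
        exact ⟨⟨⟨a, hAZ ha⟩, hAC ha⟩, hC⟩
      have hCcomp : C ∈ irreducibleComponents Z := ⟨hCirr, fun D hD hCD => (hCmax D hD.2 hCD).le⟩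
      have hcl : IsIrreducible (closure (Subtype.val '' C)) :=
        (hCirr.image _ continuous_subtype_val.continuousOn).closure
      have hgen := hcl.isGenericPoint_genericPoint isClosed_closure
      refine ⟨_, ⟨C, hCcomp, hgen⟩, hsub C hgen.mem, ?_, ?_⟩
      · rw [hgen.def]
        exact fun a ha => subset_closure ⟨⟨a, hAZ ha⟩, hAC ha, rfl⟩
      · rw [hgen.def]
        exact hsub C
    obtain ⟨σ, hσ, hcov⟩ := ih T hT hlt
    refine ⟨Fin.cons b σ, fun i => Fin.cases haff hσ i, fun x hx => ?_⟩
    by_cases hxb : x ∈ glocus (Twist.twistProjSpace N k 1) b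
    · exact ⟨0, hxb⟩
    · obtain ⟨i, hi⟩ := hcov x ⟨hx, hxb⟩
      exact ⟨i.succ, hi⟩

/-- Finite maps do not lower the dimension. -/
theorem dim_le_range {X Y : Scheme.{u}} (f : X ⟶ Y) [IsFinite f] :
    topologicalKrullDim X ≤ topologicalKrullDim (Set.range f) := by
  let g : X → Set.range f := Set.rangeFactorization f
  have hg : Continuous g := f.continuous.subtype_mk _
  refine Order.krullDim_le_of_strictMono (IrreducibleCloseds.map g hg) fun A B hAB => lt_of_le_of_ne ?_ fun h => ?_
  · exact closure_mono (Set.image_mono hAB.le)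
  obtain ⟨a, ha⟩ : ∃ a, IsGenericPoint a (A : Set X) := QuasiSober.sober A.isIrreducible A.isClosed
  obtain ⟨b, hb⟩ : ∃ b, IsGenericPoint b (B : Set X) := QuasiSober.sober B.isIrreducible B.isClosed
  have hmem : ∀ {C : IrreducibleCloseds X} {c : X}, IsGenericPoint c (C : Set X) →
      IsGenericPoint (g c) ((IrreducibleCloseds.map g hg C : IrreducibleCloseds (Set.range f)) : Set (Set.range f)) :=
    fun hc => hc.image hg
  have hfab : f a = f b := by
    have h1 := hmem ha
    rw [h] at h1
    exact congrArg Subtype.val (h1.eq (hmem hb))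
  have hsp : b ⤳ a := hb.specializes (hAB.le ha.mem)
  have hd := f.isDiscrete_preimage_singleton (f b)
  haveI := hd.to_subtype
  let a' : (f ⁻¹' {f b} : Set X) := ⟨a, hfab⟩
  let b' : (f ⁻¹' {f b} : Set X) := ⟨b, rfl⟩
  have hsp' : b' ⤳ a' := Topology.IsInducing.subtypeVal.specializes_iff.1 hsp
  have hab : b = a := congrArg Subtype.val hsp'.eq
  exact hAB.ne (IrreducibleCloseds.ext (ha.def.symm.trans (hab ▸ hb.def)))

/-- A projective scheme of dimension `d` is finite surjective over `P^d`, compatibly with `O(1)`. -/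
theorem exists_finite_surjective {X : Scheme.{u}} (ι : X ⟶ CohB1.ProjSpace N k) [IsClosedImmersion ι] {d : ℕ}
    (hd : topologicalKrullDim X = d) :
    ∃ π : X ⟶ CohB1.ProjSpace d k, π ≫ CohB1.ProjSpace.toSpec d k = ι ≫ CohB1.ProjSpace.toSpec N k ∧
      IsFinite π ∧ Function.Surjective π.base ∧
      Nonempty ((Scheme.Modules.pullback π).obj (Twist.twistProjSpace d k 1) ≅
        (Scheme.Modules.pullback ι).obj (Twist.twistProjSpace N k 1)) := by
  have hL₀ : PicF.IsInvertible (Twist.twistProjSpace N k 1) := CAlgH3.PSheafGen.isInvertible_twistProj 1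
  have hrange : topologicalKrullDim (Set.range ι) < ((d + 1 : ℕ) : WithBot ℕ∞) := by
    rw [← (ι.isClosedEmbedding.toIsEmbedding.toHomeomorph).isHomeomorph.topologicalKrullDim_eq, hd]
    exact_mod_cast Nat.lt_succ_self d
  obtain ⟨σ, hσ, hcov⟩ := exists_forms (d + 1) _ ι.isClosedEmbedding.isClosed_range hrange
  let L := (Scheme.Modules.pullback ι).obj (Twist.twistProjSpace N k 1)
  have hg : ∀ i, glocus L (PicLib.pullSec ι (σ i)) = ι ⁻¹ᵁ glocus (Twist.twistProjSpace N k 1) (σ i) :=
    fun i => glocus_pullSec ι hL₀ (σ i)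
  obtain ⟨π, hπ, τ, hτ⟩ := UPLib.exists_hom_projSpace (X := X) (n := d) (ι ≫ CohB1.ProjSpace.toSpec N k)
    (PicLoc.isInvertible_pullback ι hL₀) (fun i => PicLib.pullSec ι (σ i)) fun x => by
      obtain ⟨i, hi⟩ := hcov (ι x) ⟨x, rfl⟩
      exact ⟨i, (hg i).ge hi⟩
  have hpre : ∀ i, π ⁻¹ᵁ PnEmb.chartOpen d k i = ι ⁻¹ᵁ glocus (Twist.twistProjSpace N k 1) (σ i) :=
    fun i => (PnEmb.preimage_chartOpen π τ hτ i).trans (hg i)
  haveI : IsAffineHom π := isAffineHom_of_forall_exists_isAffineOpen π fun y => by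
    obtain ⟨l, hl⟩ := CAlgH3.PTilde.exists_var_notMem (show ProjectiveSpectrum (CohB1.polyGrading d k) from y)
    refine ⟨PnEmb.chartOpen d k l, hl, PnEmb.isAffineOpen_chartOpen l, ?_⟩
    rw [hpre l]
    exact (hσ l).preimage ι
  haveI : IsProper (CohB1.ProjSpace.toSpec N k) := CurveLib.isProper_projSpace k N
  haveI : IsProper (CohB1.ProjSpace.toSpec d k) := CurveLib.isProper_projSpace k d
  haveI : IsProper π := by
    haveI : IsProper (π ≫ CohB1.ProjSpace.toSpec d k) := by rw [hπ]; infer_instance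
    exact IsProper.of_comp π (CohB1.ProjSpace.toSpec d k)
  haveI hfin : IsFinite π := IsFinite.iff_isProper_and_isAffineHom.2 ⟨inferInstance, inferInstance⟩
  refine ⟨π, hπ, hfin, ?_, ⟨τ⟩⟩
  have hcl : IsClosed (Set.range π) := (π.isClosedMap).isClosed_range
  by_contra hns
  have hne : Set.range π ≠ Set.univ := fun h => hns (Set.range_eq_univ.1 h)
  haveI := CurveLib.isIntegral_projSpace k d
  have hηT : genericPoint (CohB1.ProjSpace d k) ∉ Set.range π := fun h => hne (Set.eq_univ_of_univ_subset
    ((genericPoint_spec (CohB1.ProjSpace d k)).def.ge.trans (hcl.closure_subset_iff.2 (Set.singleton_subset_iff.2 h))))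
  have h1 : topologicalKrullDim (Set.range π) < (d : WithBot ℕ∞) :=
    EulerLib.dim_lt_of_notMem hcl (Set.subset_univ _) isClosed_univ (genericPoint_spec _).def hηT
      (((Homeomorph.Set.univ _).isHomeomorph.topologicalKrullDim_eq).le.trans
        (DimLib.PN.topologicalKrullDim_projSpace d k).le)
  exact absurd (hd.symm.le.trans (dim_le_range π)) (not_le.2 h1)

end Groth.Agent.LinProj24
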